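import Mathlib
import Cfsg.Agent.Lib.Helper65.UnipCent
import Cfsg.Agent.Lib.Helper48.JordanForm

set_option autoImplicit false

namespace Cfsg.Agent.Lib.Helper99.PG

open Module LinearMap Finset

variable {F V : Type*} [Field F] [Fintype F] [AddCommGroup V] [Module F V] [FiniteDimensional F V]

theorem natCast_ne_zero_of_not_dvd {r : ℕ} (hr : r.Prime) (hrq : ¬ r ∣ Fintype.card F) :
    (r : F) ≠ 0 := by
  obtain ⟨p, hp⟩ := CharP.exists F
  have hpp : p.Prime := by
    have := CharP.char_is_prime F p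
    exact this
  have : Fact p.Prime := ⟨hpp⟩
  intro h
  rw [CharP.cast_eq_zero_iff F p] at h
  have hpr : p = r := (Nat.prime_dvd_prime_iff_eq hpp hr).1 h
  obtain ⟨k, _, hk⟩ := FiniteField.card F p
  apply hrq
  rw [hk, ← hpr]
  exact dvd_pow_self p k.ne_zero

theorem sum_pow_apply_fixed (β : V →ₗ[F] V) (r : ℕ) (x : V) (hx : β x = x) :
    (∑ i ∈ range r, β ^ i) x = (r : F) • x := by
  have h : ∀ i : ℕ, (β ^ i) x = x := by
    intro i
    induction i with
    | zero => simp
    | succ i ih => rw [pow_succ, Module.End.mul_apply, hx, ih]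
  rw [LinearMap.sum_apply, Finset.sum_congr rfl (fun i _ => h i), Finset.sum_const, card_range,
    Nat.cast_smul_eq_nsmul]

theorem sp_main (B : LinearMap.BilinForm F V) (hA : B.IsAlt) (hnd : ∀ x, (∀ y, B x y = 0) → x = 0)
    {n r : ℕ} [Fact r.Prime] (hdim : finrank F V = 2 * n) (hrq : ¬ r ∣ Fintype.card F)
    (β ψ : V →ₗ[F] V) (hβ : ∀ x y, B (β x) (β y) = B x y) (hβr : β ^ r = 1)
    (hc : Commute β ψ) (hsa : ∀ x y, B (ψ x) y = B x (ψ y))
    (hπ : ψ * (∑ i ∈ range r, β ^ i) = 0) (h0 : ψ ≠ 0) (hk : LinearMap.ker ψ ≠ ⊥) :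
    ∃ i, 1 ≤ i ∧ i ≤ n - 1 ∧ r ∣ Fintype.card F ^ (2 * i) - 1 := by
  have hr : r.Prime := Fact.out
  have hr0 : (r : F) ≠ 0 := natCast_ne_zero_of_not_dvd hr hrq
  have hcomm : ∀ x, β (ψ x) = ψ (β x) := fun x => by
    have := congrArg (fun f : End F V => f x) hc.eq
    simpa using this
  set δ : V → F := fun x => B (ψ x) x with hδ
  have hadd : ∀ x y, δ (x + y) = δ x + δ y := by
    intro x y
    simp only [hδ, map_add, LinearMap.add_apply]
    have h1 : B (ψ x) y + B (ψ y) x = 0 := by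
      rw [hsa x y, ← hA.neg_eq (ψ y) x]
      ring
    linear_combination h1
  have hinv : ∀ x, δ (β x) = δ x := by
    intro x
    simp only [hδ]
    rw [← hcomm, hβ]
  have hinv' : ∀ (i : ℕ) x, δ ((β ^ i) x) = δ x := by
    intro i
    induction i with
    | zero => intro x; simp
    | succ i ih => intro x; rw [pow_succ, Module.End.mul_apply, ih, hinv]
  have hδ0 : δ 0 = 0 := by simp [hδ]
  have hsum : ∀ (s : Finset ℕ) (x : V), δ (∑ i ∈ s, (β ^ i) x) = ∑ i ∈ s, δ ((β ^ i) x) := by
    intro s x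
    induction s using Finset.induction_on with
    | empty => simpa using hδ0
    | insert a s ha ih => rw [Finset.sum_insert ha, Finset.sum_insert ha, hadd, ih]
  have hπx : ∀ x, ψ ((∑ i ∈ range r, β ^ i) x) = 0 := fun x => by
    have := congrArg (fun f : End F V => f x) hπ
    simpa using this
  have halt : ∀ x, δ x = 0 := by
    intro x
    have h1 : δ ((∑ i ∈ range r, β ^ i) x) = 0 := by
      simp only [hδ]
      rw [hπx]
      simp
    rw [LinearMap.sum_apply, hsum, Finset.sum_congr rfl (fun i _ => hinv' i x), Finset.sum_const,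
      card_range, nsmul_eq_mul] at h1
    exact (mul_eq_zero.1 h1).resolve_left hr0
  let C : LinearMap.BilinForm F V := B.comp ψ LinearMap.id
  have hCa : ∀ x y, C x y = B (ψ x) y := fun x y => rfl
  have hC : C.IsAlt := fun x => halt x
  have hker : LinearMap.ker C = LinearMap.ker ψ := by
    ext x
    rw [LinearMap.mem_ker, LinearMap.mem_ker]
    constructor
    · intro h
      apply hnd
      intro w
      rw [← hCa, h]
      rfl
    · intro h
      apply LinearMap.ext
      intro y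
      rw [hCa, h]
      simp
  have heven := Cfsg.Agent.Lib.Helper48.even_finrank_add_finrank_ker_of_isAlt C hC
  rw [hker, hdim] at heven
  set κ := finrank F (LinearMap.ker ψ) with hκ
  have hfix : LinearMap.ker (β - 1) ≤ LinearMap.ker ψ := by
    intro x hx
    rw [LinearMap.mem_ker, LinearMap.sub_apply, sub_eq_zero] at hx
    have h1 := hπx x
    rw [sum_pow_apply_fixed β r x hx, map_smul] at h1
    exact LinearMap.mem_ker.2 ((smul_eq_zero.1 h1).resolve_left hr0)
  have m1 := Cfsg.Agent.Lib.Helper65.UnipCent.modEq_of_invariant β hβr ⊤ (fun _ _ => trivial)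
  have m2 := Cfsg.Agent.Lib.Helper65.UnipCent.modEq_of_invariant β hβr (LinearMap.ker ψ) (by
    intro w hw
    rw [LinearMap.mem_ker] at hw ⊢
    rw [← hcomm, hw, map_zero])
  rw [finrank_top, hdim, top_inf_eq] at m1
  rw [inf_eq_right.2 hfix] at m2
  have m3 : Fintype.card F ^ (2 * n) ≡ Fintype.card F ^ κ [MOD r] := m1.trans m2.symm
  have hκpos : 0 < κ := by
    rw [hκ, Module.finrank_pos_iff_exists_ne_zero]
    obtain ⟨x, hx, hx0⟩ := (Submodule.ne_bot_iff _).1 hk
    exact ⟨⟨x, hx⟩, fun h => hx0 (congrArg Subtype.val h)⟩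
  have hκlt : κ < 2 * n := by
    rw [← hdim]
    apply Submodule.finrank_lt
    intro h
    apply h0
    exact LinearMap.ker_eq_top.1 h
  obtain ⟨e, he⟩ := heven
  refine ⟨(2 * n - κ) / 2, by omega, by omega, ?_⟩
  have h2 : 2 * ((2 * n - κ) / 2) = 2 * n - κ := by omega
  rw [h2]
  have h3 : Fintype.card F ^ (2 * n) = Fintype.card F ^ κ * Fintype.card F ^ (2 * n - κ) := by
    rw [← pow_add]; congr 1; omega
  rw [h3] at m3
  have hcop : Nat.Coprime r (Fintype.card F ^ κ) :=
    Nat.Coprime.pow_right _ ((Nat.Prime.coprime_iff_not_dvd hr).2 hrq)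
  have m4 : Fintype.card F ^ κ * Fintype.card F ^ (2 * n - κ) ≡ Fintype.card F ^ κ * 1 [MOD r] := by
    simpa using m3
  have m5 := Nat.ModEq.cancel_left_of_coprime (by rw [Nat.coprime_iff_gcd_eq_one.1 hcop]) m4
  exact (Nat.modEq_iff_dvd' (Nat.one_le_pow _ _ Fintype.card_pos)).1 m5.symm

end Cfsg.Agent.Lib.Helper99.PG
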