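import Mathlib

set_option autoImplicit false

namespace Cfsg.Agent.Lib.Helper99.PG

open Module LinearMap

variable {F V : Type*} [Field F] [AddCommGroup V] [Module F V]

/-- a nonzero nilpotent endomorphism has a nonzero power of square zero -/
theorem exists_sq_zero {ν : End F V} (hν : IsNilpotent ν) (h0 : ν ≠ 0) :
    ∃ j : ℕ, ν ^ j ≠ 0 ∧ ν ^ j * ν ^ j = 0 := by
  classical
  obtain ⟨k, hk⟩ := hν
  have hex : ∃ k, ν ^ k = 0 := ⟨k, hk⟩
  set m := Nat.find hex with hm
  have hm0 : ν ^ m = 0 := Nat.find_spec hex
  have hm2 : 2 ≤ m := by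
    by_contra hlt
    have : m = 0 ∨ m = 1 := by omega
    rcases this with h | h
    · rw [h, pow_zero] at hm0
      apply h0
      have : ν = ν * 1 := (mul_one ν).symm
      rw [this, hm0, mul_zero]
    · rw [h, pow_one] at hm0
      exact h0 hm0
  refine ⟨m - 1, ?_, ?_⟩
  · exact Nat.find_min hex (by omega)
  · rw [← pow_add]
    have : m - 1 + (m - 1) = m + (m - 2) := by omega
    rw [this, pow_add, hm0, zero_mul]

/-- triangular form of an endomorphism of a 3-space commuting with a nonzero square-zero map -/
theorem key3 [FiniteDimensional F V] (hV : finrank F V = 3) (T φ : End F V) (hc : Commute T φ) (hφ0 : φ ≠ 0)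
    (hφ2 : φ * φ = 0) :
    ∃ l m : F, LinearMap.det T = l * m * l ∧ (∃ u : V, u ≠ 0 ∧ T u = l • u) ∧
      (l ≠ m → ∃ w : V, w ≠ 0 ∧ T w = m • w) ∧ (l = m → (T - l • (1 : End F V)) ^ 3 = 0) := by
  classical
  have hcomm : ∀ x, T (φ x) = φ (T x) := fun x => by
    have := congrArg (fun f : End F V => f x) hc.eq
    simpa using this
  have hsq : ∀ x, φ (φ x) = 0 := fun x => by
    have := congrArg (fun f : End F V => f x) hφ2
    simpa using this
  obtain ⟨v, hv⟩ : ∃ v, φ v ≠ 0 := by
    by_contra hcon
    push Not at hcon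
    exact hφ0 (LinearMap.ext hcon)
  set u := φ v with hu
  have hφu : φ u = 0 := hsq v
  -- dimension of the kernel
  have hrk := LinearMap.finrank_range_add_finrank_ker φ
  have hle : LinearMap.range φ ≤ LinearMap.ker φ := by
    rintro _ ⟨x, rfl⟩
    exact LinearMap.mem_ker.2 (hsq x)
  have hle' := Submodule.finrank_mono hle
  have hker : 2 ≤ finrank F (LinearMap.ker φ) := by omega
  obtain ⟨w, hwk, hwu⟩ : ∃ w ∈ LinearMap.ker φ, w ∉ Submodule.span F {u} := by
    by_contra hcon
    push Not at hcon
    have h1 : LinearMap.ker φ ≤ Submodule.span F {u} := hcon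
    have h2 := Submodule.finrank_mono h1
    have h3 := finrank_span_singleton (K := F) hv
    omega
  have hφw : φ w = 0 := LinearMap.mem_ker.1 hwk
  have hli : LinearIndependent F ![v, w, u] := by
    refine LinearIndependent.finCons (v := ![w, u]) ?_ ?_
    · refine LinearIndependent.finCons (v := ![u]) ?_ ?_
      · have : (![u] : Fin 1 → V) = fun _ => u := by
          ext i; fin_cases i; rfl
        rw [this]
        exact LinearIndependent.of_subsingleton (0 : Fin 1) hv
      · simpa using hwu
    · intro hmem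
      have h1 : Submodule.span F (Set.range ![w, u]) ≤ LinearMap.ker φ := by
        rw [Submodule.span_le]
        rintro _ ⟨i, rfl⟩
        fin_cases i
        · exact hwk
        · exact LinearMap.mem_ker.2 hφu
      exact hv (LinearMap.mem_ker.1 (h1 hmem))
  let b : Basis (Fin 3) F V := basisOfLinearIndependentOfCardEqFinrank hli (by simp [hV])
  have hb0 : b 0 = v := by simp [b]
  have hb1 : b 1 = w := by simp [b]
  have hb2 : b 2 = u := by simp [b]
  have hexp : ∀ x : V, x = b.repr x 0 • v + b.repr x 1 • w + b.repr x 2 • u := by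
    intro x
    conv_lhs => rw [← b.sum_repr x]
    rw [Fin.sum_univ_three, hb0, hb1, hb2]
  set l := b.repr (T v) 0 with hl
  set y := b.repr (T v) 1 with hy
  set x := b.repr (T v) 2 with hx
  have hTv : T v = l • v + y • w + x • u := hexp (T v)
  have hTu : T u = l • u := by
    rw [hu, hcomm, hTv, map_add, map_add, map_smul, map_smul, map_smul, hφw, ← hu, hφu]
    simp
  set m := b.repr (T w) 1 with hm
  set b1 := b.repr (T w) 2 with hb1'
  have hTw0 : b.repr (T w) 0 = 0 := by
    have h1 : φ (T w) = 0 := by rw [← hcomm, hφw, map_zero]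
    have h2 := hexp (T w)
    rw [h2, map_add, map_add, map_smul, map_smul, map_smul, hφw, hφu, ← hu] at h1
    simp only [smul_zero, add_zero] at h1
    exact (smul_eq_zero.1 h1).resolve_right hv
  have hTw : T w = m • w + b1 • u := by
    have h2 := hexp (T w)
    rw [hTw0, zero_smul, zero_add] at h2
    exact h2
  refine ⟨l, m, ?_, ⟨u, hv, hTu⟩, ?_, ?_⟩
  · rw [← LinearMap.det_toMatrix b, Matrix.det_fin_three]
    have e01 : LinearMap.toMatrix b b T 0 1 = 0 := by
      rw [LinearMap.toMatrix_apply, hb1, hTw0]
    have e02 : LinearMap.toMatrix b b T 0 2 = 0 := by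
      rw [LinearMap.toMatrix_apply, hb2, hTu, ← hb2]
      simp
    have e12 : LinearMap.toMatrix b b T 1 2 = 0 := by
      rw [LinearMap.toMatrix_apply, hb2, hTu, ← hb2]
      simp
    have e00 : LinearMap.toMatrix b b T 0 0 = l := by
      rw [LinearMap.toMatrix_apply, hb0]
    have e11 : LinearMap.toMatrix b b T 1 1 = m := by
      rw [LinearMap.toMatrix_apply, hb1]
    have e22 : LinearMap.toMatrix b b T 2 2 = l := by
      rw [LinearMap.toMatrix_apply, hb2, hTu, ← hb2]
      simp
    rw [e01, e02, e12, e00, e11, e22]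
    ring
  · intro hlm
    have hml : m - l ≠ 0 := sub_ne_zero.2 (Ne.symm hlm)
    refine ⟨w + (b1 / (m - l)) • u, ?_, ?_⟩
    · intro h0
      apply hwu
      rw [Submodule.mem_span_singleton]
      refine ⟨-(b1 / (m - l)), ?_⟩
      rw [neg_smul]
      exact (eq_neg_of_add_eq_zero_left h0).symm
    · rw [map_add, map_smul, hTw, hTu, smul_add, smul_smul, smul_smul, add_assoc, ← add_smul]
      congr 2
      field_simp
      ring
  · intro hlm
    apply b.ext
    have hS : ∀ z, (T - l • (1 : End F V)) z = T z - l • z := fun z => by simp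
    have h3 : ∀ z, ((T - l • (1 : End F V)) ^ 3) z =
        (T - l • (1 : End F V)) ((T - l • (1 : End F V)) ((T - l • (1 : End F V)) z)) := by
      intro z
      rw [pow_succ, pow_succ, pow_one]
      rfl
    have hSu : (T - l • (1 : End F V)) u = 0 := by rw [hS, hTu, sub_self]
    have hSw : (T - l • (1 : End F V)) w = b1 • u := by
      rw [hS, hTw, ← hlm]; abel
    have hSv : (T - l • (1 : End F V)) v = y • w + x • u := by
      rw [hS, hTv]; abel
    intro i
    fin_cases i
    · change ((T - l • (1 : End F V)) ^ 3) (b 0) = _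
      rw [hb0, h3, hSv, map_add, map_smul, map_smul, hSw, hSu, smul_zero, add_zero, map_smul,
        map_smul, hSu]
      simp
    · change ((T - l • (1 : End F V)) ^ 3) (b 1) = _
      rw [hb1, h3, hSw, map_smul, hSu]
      simp
    · change ((T - l • (1 : End F V)) ^ 3) (b 2) = _
      rw [hb2, h3, hSu]
      simp

end Cfsg.Agent.Lib.Helper99.PG
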