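import Mathlib
import Cfsg.Agent.Lib.Helper99.PG.Tri3
import Cfsg.Agent.Lib.Helper48.ProjPSL

set_option autoImplicit false

namespace Cfsg.Agent.Lib.Helper99.PG

open Module LinearMap Cfsg.Agent.Lib.Helper48

variable {F : Type*} [Field F] [Fintype F]

theorem pow_apply_eigen {V : Type*} [AddCommGroup V] [Module F V] (T : End F V) (u : V) (l : F)
    (h : T u = l • u) (j : ℕ) : (T ^ j) u = l ^ j • u := by
  induction j with
  | zero => simp
  | succ j ih => rw [pow_succ, Module.End.mul_apply, h, map_smul, ih, smul_smul, pow_succ, mul_comm]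

/-- the exceptional case: no element of order `3p` in `PSL_3(q)` when `(q-1)_3 = 3` -/
theorem no_three_p (p : ℕ) [Fact p.Prime] [CharP F p] (hp3 : p ≠ 3) (h3 : 3 ∣ Fintype.card F - 1)
    (h9 : ¬ 9 ∣ Fintype.card F - 1) (T : End F (Fin 3 → F)) (hdet : LinearMap.det T = 1)
    (hT : POrd T (3 * p)) : False := by
  have hp : p.Prime := Fact.out
  have : CharP (End F (Fin 3 → F)) p :=
    charP_of_injective_algebraMap (FaithfulSMul.algebraMap_injective F (End F (Fin 3 → F))) p
  obtain ⟨c, hc⟩ := (hT (3 * p)).2 dvd_rfl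
  set c0 := (frobeniusEquiv F p).symm c with hc0
  have hc0p : c0 ^ p = c := frobeniusEquiv_symm_pow_p F p c
  set ν : End F (Fin 3 → F) := T ^ 3 - c0 • 1 with hν
  have hcomm1 : Commute (T ^ 3) (c0 • (1 : End F (Fin 3 → F))) :=
    (Commute.one_right _).smul_right c0
  have hνp : ν ^ p = 0 := by
    rw [hν, sub_pow_char_of_commute p hcomm1, ← pow_mul, hc, smul_pow, one_pow, hc0p, sub_self]
  have hν0 : ν ≠ 0 := by
    intro h0
    have h1 : T ^ 3 = c0 • (1 : End F (Fin 3 → F)) := sub_eq_zero.1 h0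
    have h2 := (hT 3).1 ⟨c0, h1⟩
    have h4 : p ∣ 1 := by
      have : 3 * p ∣ 3 * 1 := by simpa using h2
      exact Nat.dvd_of_mul_dvd_mul_left (by norm_num) this
    exact hp.one_lt.ne' (Nat.dvd_one.1 h4)
  obtain ⟨j, hj0, hj2⟩ := exists_sq_zero ⟨p, hνp⟩ hν0
  have hTν : Commute T ν := by
    rw [hν]
    exact ((Commute.refl T).pow_right 3).sub_right ((Commute.one_right _).smul_right c0)
  obtain ⟨l, m, hd, ⟨u, hu0, hTu⟩, hne, heq⟩ :=
    key3 (by simp) T (ν ^ j) (hTν.pow_right j) hj0 hj2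
  rw [hdet] at hd
  by_cases hlm : l = m
  · have h1 := heq hlm
    have h2 : (T - l • (1 : End F (Fin 3 → F))) ^ p ^ 2 = 0 := by
      have h4 : 3 ≤ p ^ 2 := by nlinarith [hp.two_le]
      obtain ⟨k, hk⟩ := Nat.exists_eq_add_of_le h4
      rw [hk, pow_add, h1, zero_mul]
    rw [sub_pow_char_pow_of_commute p 2 ((Commute.one_right _).smul_right l), smul_pow, one_pow,
      sub_eq_zero] at h2
    have h5 := (hT (p ^ 2)).1 ⟨_, h2⟩
    have h6 : 3 ∣ p := by
      rw [pow_two] at h5
      exact Nat.dvd_of_mul_dvd_mul_right hp.pos h5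
    exact hp3 ((Nat.prime_dvd_prime_iff_eq Nat.prime_three hp).1 h6).symm
  · obtain ⟨w, hw0, hTw⟩ := hne hlm
    have e1 : l ^ (3 * p) = c := by
      have h1 := pow_apply_eigen T u l hTu (3 * p)
      rw [hc] at h1
      simp only [LinearMap.smul_apply, Module.End.one_apply] at h1
      have h2 : (c - l ^ (3 * p)) • u = 0 := by rw [sub_smul, h1, sub_self]
      exact (sub_eq_zero.1 ((smul_eq_zero.1 h2).resolve_right hu0)).symm
    have e2 : m ^ (3 * p) = c := by
      have h1 := pow_apply_eigen T w m hTw (3 * p)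
      rw [hc] at h1
      simp only [LinearMap.smul_apply, Module.End.one_apply] at h1
      have h2 : (c - m ^ (3 * p)) • w = 0 := by rw [sub_smul, h1, sub_self]
      exact (sub_eq_zero.1 ((smul_eq_zero.1 h2).resolve_right hw0)).symm
    have e3 : l ^ 3 = m ^ 3 := by
      apply frobenius_inj F p
      simp only [_root_.frobenius_def]
      rw [← pow_mul, ← pow_mul, e1, e2]
    have hl0 : l ≠ 0 := by
      rintro rfl
      simp at hd
    have e9 : l ^ 9 = 1 := by
      have : l ^ 9 = l ^ 3 * (l ^ 2) ^ 3 := by ring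
      rw [this, e3, ← mul_pow]
      have h1 : m * l ^ 2 = 1 := by rw [hd]; ring
      rw [h1, one_pow]
    have eq1 : l ^ (Fintype.card F - 1) = 1 := FiniteField.pow_card_sub_one_eq_one l hl0
    have hg : Nat.gcd 9 (Fintype.card F - 1) = 3 := by
      have h1 : Nat.gcd 9 (Fintype.card F - 1) ∣ 9 := Nat.gcd_dvd_left _ _
      have h2 : 3 ∣ Nat.gcd 9 (Fintype.card F - 1) := Nat.dvd_gcd (by norm_num) h3
      have h4 : Nat.gcd 9 (Fintype.card F - 1) ≠ 9 := by
        intro h
        exact h9 (h ▸ Nat.gcd_dvd_right 9 (Fintype.card F - 1))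
      have h5 : Nat.gcd 9 (Fintype.card F - 1) ≤ 9 := Nat.le_of_dvd (by norm_num) h1
      interval_cases (Nat.gcd 9 (Fintype.card F - 1)) <;> omega
    have e3' : l ^ 3 = 1 := by
      have h1 : orderOf l ∣ Nat.gcd 9 (Fintype.card F - 1) :=
        Nat.dvd_gcd (orderOf_dvd_of_pow_eq_one e9) (orderOf_dvd_of_pow_eq_one eq1)
      rw [hg] at h1
      exact orderOf_dvd_iff_pow_eq_one.1 h1
    apply hlm
    have : m = (l * m * l) * l * (l ^ 3)⁻¹ * 1 := by
      field_simp
    rw [this, ← hd, e3']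
    simp

/-- the matrix used for the construction in dimension 3 -/
def M3 (x : F) : Matrix (Fin 3) (Fin 3) F := !![x, x, 0; 0, x, 0; 0, 0, (x ^ 2)⁻¹]

theorem M3_pow (x : F) (j : ℕ) :
    M3 x ^ j = !![x ^ j, j * x ^ j, 0; 0, x ^ j, 0; 0, 0, ((x ^ 2)⁻¹) ^ j] := by
  induction j with
  | zero =>
    ext a b
    fin_cases a <;> fin_cases b <;> simp
  | succ j ih =>
    rw [pow_succ, ih, M3]
    ext a b
    fin_cases a <;> fin_cases b <;> simp [Matrix.mul_apply, Fin.sum_univ_three, pow_succ] <;> ring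

theorem exists_PSL3 (p : ℕ) [Fact p.Prime] [CharP F p] (r : ℕ) (hr : r.Prime) (hrp : r ≠ p) (x : F)
    (hx : x ≠ 0) (h : ∀ j, x ^ (3 * j) = 1 ↔ r ∣ j) :
    ∃ y : Matrix.ProjectiveSpecialLinearGroup (Fin 3) F, orderOf y = r * p := by
  have hp : p.Prime := Fact.out
  apply exists_PSL_orderOf_of_pord (Matrix.toLinAlgEquiv' (M3 x))
  · change LinearMap.det (Matrix.toLin' (M3 x)) = 1
    rw [LinearMap.det_toLin', M3, Matrix.det_fin_three]
    simp
    field_simp
  · intro j
    rw [← map_pow, M3_pow]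
    have hcop : Nat.Coprime r p := (Nat.coprime_primes hr hp).2 hrp
    constructor
    · rintro ⟨c, hc⟩
      have hc' : !![x ^ j, j * x ^ j, 0; 0, x ^ j, 0; 0, 0, ((x ^ 2)⁻¹) ^ j] =
          c • (1 : Matrix (Fin 3) (Fin 3) F) := by
        apply Matrix.toLinAlgEquiv'.injective
        rw [hc, map_smul, map_one]
      have h00 := congrFun (congrFun hc' 0) 0
      have h01 := congrFun (congrFun hc' 0) 1
      have h22 := congrFun (congrFun hc' 2) 2
      simp at h00 h01 h22
      apply Nat.Coprime.mul_dvd_of_dvd_of_dvd hcop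
      · rw [← h]
        have : x ^ (3 * j) = x ^ j * ((x ^ 2) ^ j) := by ring
        rw [this, h00, ← h22, inv_mul_cancel₀ (pow_ne_zero j (pow_ne_zero 2 hx))]
      · rcases h01 with h01 | h01
        · exact (CharP.cast_eq_zero_iff F p j).1 h01
        · exact absurd h01.1 hx
    · intro hj
      have hrj : r ∣ j := (Dvd.intro _ rfl).trans hj
      have hpj : p ∣ j := (Dvd.intro_left _ rfl).trans hj
      refine ⟨x ^ j, ?_⟩
      rw [← map_one Matrix.toLinAlgEquiv', ← map_smul]
      congr 1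
      have h1 : (j : F) = 0 := (CharP.cast_eq_zero_iff F p j).2 hpj
      have h2 : x ^ (3 * j) = 1 := (h j).2 hrj
      have h3 : ((x ^ 2)⁻¹) ^ j = x ^ j := by
        rw [inv_pow]
        rw [inv_eq_iff_eq_inv, eq_comm, inv_eq_iff_eq_inv]
        apply eq_inv_of_mul_eq_one_left
        rw [← h2]; ring
      ext a b
      fin_cases a <;> fin_cases b <;> simp [h1, h3]

end Cfsg.Agent.Lib.Helper99.PG
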