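import Mathlib
import Cfsg.Agent.Lib.Helper99.PG.SP1

set_option autoImplicit false

namespace Cfsg.Agent.Lib.Helper99.PG

open Module LinearMap Finset

variable {F V : Type*} [Field F] [Fintype F] [AddCommGroup V] [Module F V] [FiniteDimensional F V]

/-- last nonzero power of a nonzero nilpotent endomorphism -/
theorem exists_last_pow {ν : End F V} (hν : IsNilpotent ν) (h0 : ν ≠ 0) :
    ∃ j : ℕ, 1 ≤ j ∧ ν ^ j ≠ 0 ∧ ν ^ (j + 1) = 0 := by
  classical
  obtain ⟨k, hk⟩ := hν
  have hex : ∃ k, ν ^ k = 0 := ⟨k, hk⟩
  set m := Nat.find hex with hm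
  have hm0 : ν ^ m = 0 := Nat.find_spec hex
  have hm2 : 2 ≤ m := by
    by_contra hlt
    have : m = 0 ∨ m = 1 := by omega
    rcases this with h | h
    · rw [h, pow_zero] at hm0
      apply h0
      have : ν = ν * 1 := (mul_one ν).symm
      rw [this, hm0, mul_zero]
    · rw [h, pow_one] at hm0
      exact h0 hm0
  refine ⟨m - 1, by omega, Nat.find_min hex (by omega), ?_⟩
  have : m - 1 + 1 = m := by omega
  rw [this, hm0]

theorem sp_adj (B : LinearMap.BilinForm F V) (hA : B.IsAlt) (hnd : ∀ x, (∀ y, B x y = 0) → x = 0)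
    {n r : ℕ} [Fact r.Prime] (hdim : finrank F V = 2 * n) (hr2 : r ≠ 2)
    (hrq : ¬ r ∣ Fintype.card F)
    (α β : V →ₗ[F] V) (hα : ∀ x y, B (α x) (α y) = B x y) (hβ : ∀ x y, B (β x) (β y) = B x y)
    (hαn : IsNilpotent (α - 1)) (hα1 : α ≠ 1) (hβr : β ^ r = 1) (hβ1 : β ≠ 1) (hc : Commute α β) :
    ∃ i, 1 ≤ i ∧ i ≤ n - 1 ∧ r ∣ Fintype.card F ^ (2 * i) - 1 := by
  have hr : r.Prime := Fact.out
  have hr0 : (r : F) ≠ 0 := natCast_ne_zero_of_not_dvd hr hrq
  have hr1 : 1 ≤ r := hr.one_lt.le
  set π : End F V := ∑ i ∈ range r, β ^ i with hπ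
  have hβπ : β * π = π := by
    have h1 : (β - 1) * π = 0 := by rw [hπ, mul_geom_sum, hβr, sub_self]
    rw [sub_mul, one_mul, sub_eq_zero] at h1
    exact h1
  have hββ : β * β ^ (r - 1) = 1 := by
    rw [← pow_succ', Nat.sub_add_cancel hr1, hβr]
  have hββ' : β ^ (r - 1) * β = 1 := by
    rw [← pow_succ, Nat.sub_add_cancel hr1, hβr]
  have hβiπ : β ^ (r - 1) * π = π := by
    calc β ^ (r - 1) * π = β ^ (r - 1) * (β * π) := by rw [hβπ]
      _ = π := by rw [← mul_assoc, hββ', one_mul]
  have hap : ∀ x, β ((β ^ (r - 1)) x) = x := fun x => by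
    have := congrArg (fun f : End F V => f x) hββ
    simpa using this
  have hap' : ∀ x, (β ^ (r - 1)) (β x) = x := fun x => by
    have := congrArg (fun f : End F V => f x) hββ'
    simpa using this
  have adj1 : ∀ x y, B (β x) y = B x ((β ^ (r - 1)) y) := by
    intro x y
    conv_lhs => rw [← hap y]
    rw [hβ]
  have adj2 : ∀ x y, B ((β ^ (r - 1)) x) y = B x (β y) := by
    intro x y
    rw [← hβ ((β ^ (r - 1)) x) y, hap]
  by_cases hfix : LinearMap.ker (β - 1) = ⊥
  · -- free action
    have hπ0 : π = 0 := by
      apply LinearMap.ext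
      intro x
      have h1 : π x ∈ LinearMap.ker (β - 1) := by
        rw [LinearMap.mem_ker, LinearMap.sub_apply, sub_eq_zero]
        have := congrArg (fun f : End F V => f x) hβπ
        simpa using this
      rw [hfix] at h1
      simpa using h1
    set ν : End F V := α - 1 with hν
    have hν0 : ν ≠ 0 := fun h => hα1 (sub_eq_zero.1 h)
    obtain ⟨j, hj1, hj0, hj2⟩ := exists_last_pow hαn hν0
    have hαν : Commute α ν := (Commute.refl α).sub_right (Commute.one_right α)
    have hνβ : Commute ν β := hc.sub_left (Commute.one_left β)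
    have hνx : ∀ x, ν x = α x - x := fun x => by simp [hν]
    have R1 : ∀ x y, B (ν x) (α y) = - B x (ν y) := by
      intro x y
      rw [hνx, hνx, map_sub, LinearMap.sub_apply, hα, map_sub]
      ring
    have R2 : ∀ (i : ℕ) x y, B ((ν ^ i) x) ((α ^ i) y) = (-1) ^ i * B x ((ν ^ i) y) := by
      intro i
      induction i with
      | zero => intro x y; simp
      | succ i ih =>
        intro x y
        have e1 : (ν ^ (i + 1)) x = ν ((ν ^ i) x) := by rw [pow_succ']; rfl
        have e2 : (α ^ (i + 1)) y = α ((α ^ i) y) := by rw [pow_succ']; rfl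
        have e3 : ν ((α ^ i) y) = (α ^ i) (ν y) := by
          have := congrArg (fun f : End F V => f y) (hαν.pow_left i).eq
          simpa using this.symm
        have e4 : (ν ^ (i + 1)) y = (ν ^ i) (ν y) := by rw [pow_succ]; rfl
        rw [e1, e2, R1, e3, ih, e4, pow_succ]
        ring
    have hj2x : ∀ x, ν ((ν ^ j) x) = 0 := fun x => by
      have := congrArg (fun f : End F V => f x) hj2
      rw [pow_succ'] at this
      simpa using this
    have R3 : ∀ x z, B ((ν ^ j) x) (ν z) = 0 := by
      intro x z
      have h1 : α ((ν ^ j) x) = (ν ^ j) x := by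
        have := hνx ((ν ^ j) x)
        rw [hj2x] at this
        exact (sub_eq_zero.1 this.symm)
      have h2 := R1 z ((ν ^ j) x)
      rw [h1, hj2x, map_zero, neg_zero] at h2
      rw [← hA.neg_eq, h2, neg_zero]
    have R5 : ∀ x y, B ((ν ^ j) x) y = (-1) ^ j * B x ((ν ^ j) y) := by
      intro x y
      rw [← R2 j x y]
      have h1 : (α ^ j) y = y + ν ((∑ t ∈ range j, α ^ t) y) := by
        have h2 : (α - 1) * ∑ t ∈ range j, α ^ t = α ^ j - 1 := mul_geom_sum α j
        have h3 := congrArg (fun f : End F V => f y) h2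
        simp only [Module.End.mul_apply, LinearMap.sub_apply, Module.End.one_apply] at h3
        rw [hνx]
        rw [h3]
        abel
      rw [h1, map_add, R3, add_zero]
    -- the twisting factor
    obtain ⟨γ, hγβ, hγν, hγadj, hγinj⟩ : ∃ γ : End F V, Commute β γ ∧ Commute ν γ ∧
        (∀ x y, B (γ x) y = (-1) ^ j * B x (γ y)) ∧ Function.Injective γ := by
      rcases Nat.even_or_odd j with hje | hjo
      · refine ⟨1, Commute.one_right _, Commute.one_right _, ?_, Function.injective_id⟩
        intro x y
        rw [hje.neg_one_pow]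
        simp
      · refine ⟨β - β ^ (r - 1), ?_, ?_, ?_, ?_⟩
        · exact (Commute.refl β).sub_right ((Commute.refl β).pow_right _)
        · exact hνβ.sub_right (hνβ.pow_right _)
        · intro x y
          rw [hjo.neg_one_pow, LinearMap.sub_apply, LinearMap.sub_apply, map_sub,
            LinearMap.sub_apply, map_sub, adj1, adj2]
          ring
        · rw [← LinearMap.ker_eq_bot, eq_bot_iff]
          intro x hx
          rw [LinearMap.mem_ker, LinearMap.sub_apply, sub_eq_zero] at hx
          have h2 : β (β x) = x := by rw [hx, hap]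
          obtain ⟨t, ht⟩ := hr.eq_two_or_odd'.resolve_left hr2
          have h3 : ∀ i : ℕ, (β ^ (2 * i)) x = x := by
            intro i
            induction i with
            | zero => simp
            | succ i ih =>
              have : 2 * (i + 1) = 2 * i + 1 + 1 := by ring
              rw [this, pow_succ, pow_succ, Module.End.mul_apply, Module.End.mul_apply, h2, ih]
          have h4 : β x = x := by
            have h5 := h3 (t + 1)
            have h6 : 2 * (t + 1) = r + 1 := by omega
            rw [h6, pow_succ, hβr, one_mul] at h5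
            exact h5
          have h7 : x ∈ LinearMap.ker (β - 1) := by
            rw [LinearMap.mem_ker, LinearMap.sub_apply, sub_eq_zero]
            exact h4
          rw [hfix] at h7
          exact h7
    have hγsurj : Function.Surjective γ := LinearMap.injective_iff_surjective.1 hγinj
    set ψ : End F V := ν ^ j * γ with hψ
    have hψ0 : ψ ≠ 0 := by
      intro h
      apply hj0
      apply LinearMap.ext
      intro x
      obtain ⟨x', rfl⟩ := hγsurj x
      have := congrArg (fun f : End F V => f x') h
      simpa [hψ] using this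
    have hψ2 : ψ * ψ = 0 := by
      have h1 : ψ * ψ = ν ^ (j + 1) * (ν ^ (j - 1) * γ * γ) := by
        rw [hψ]
        have hcm : Commute (ν ^ j) γ := hγν.pow_left j
        calc ν ^ j * γ * (ν ^ j * γ) = ν ^ j * (γ * ν ^ j) * γ := by simp only [mul_assoc]
          _ = ν ^ j * (ν ^ j * γ) * γ := by rw [hcm.eq]
          _ = (ν ^ j * ν ^ j) * γ * γ := by simp only [mul_assoc]
          _ = ν ^ (j + 1) * (ν ^ (j - 1) * γ * γ) := by
            rw [← pow_add]
            have : j + j = (j + 1) + (j - 1) := by omega
            rw [this, pow_add]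
            simp only [mul_assoc]
      rw [h1, hj2, zero_mul]
    apply sp_main B hA hnd hdim hrq β ψ hβ hβr
    · exact (hνβ.symm.pow_right j).mul_right hγβ
    · intro x y
      have e1 : ψ x = (ν ^ j) (γ x) := rfl
      have e2 : ψ y = γ ((ν ^ j) y) := by
        have := congrArg (fun f : End F V => f y) (hγν.pow_left j).eq
        simpa [hψ] using this
      rw [e1, e2, R5, hγadj, ← mul_assoc, ← pow_add, Even.neg_one_pow ⟨j, rfl⟩, one_mul]
    · rw [← hπ, hπ0, mul_zero]
    · exact hψ0
    · obtain ⟨x, hx⟩ : ∃ x, ψ x ≠ 0 := by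
        by_contra hcon
        push Not at hcon
        exact hψ0 (LinearMap.ext hcon)
      rw [Submodule.ne_bot_iff]
      refine ⟨ψ x, ?_, hx⟩
      rw [LinearMap.mem_ker]
      have := congrArg (fun f : End F V => f x) hψ2
      simpa using this
  · -- nonzero fixed vectors
    set ψ : End F V := (2 : F) • 1 - β - β ^ (r - 1) with hψ
    apply sp_main B hA hnd hdim hrq β ψ hβ hβr
    · exact (((Commute.one_right β).smul_right 2).sub_right (Commute.refl β)).sub_right
        ((Commute.refl β).pow_right _)
    · intro x y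
      simp only [hψ, LinearMap.sub_apply, LinearMap.smul_apply, Module.End.one_apply, map_sub,
        map_smul, adj1, adj2]
      simp only [LinearMap.smul_apply, smul_eq_mul]
      ring
    · rw [← hπ, hψ, sub_mul, sub_mul, hβπ, hβiπ, smul_mul_assoc, one_mul, two_smul]
      abel
    · intro h
      apply hβ1
      -- (β - 1)^2 = 0
      have hβψ : β * ψ = (2 : F) • β - β * β - 1 := by
        rw [hψ, mul_sub, mul_sub, hββ, mul_smul_comm, mul_one]
      have h1 : (β - 1) * (β - 1) = 0 := by
        have h2 : (β - 1) * (β - 1) = - (β * ψ) := by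
          rw [hβψ, two_smul]
          noncomm_ring
        rw [h2, h, mul_zero, neg_zero]
      have e : β = 1 + (β - 1) := by abel
      have h3 : ∀ i : ℕ, β ^ i = 1 + (i : F) • (β - 1) := by
        intro i
        induction i with
        | zero => simp
        | succ i ih =>
          rw [pow_succ, ih]
          calc (1 + (i : F) • (β - 1)) * β = (1 + (i : F) • (β - 1)) * (1 + (β - 1)) := by rw [← e]
            _ = 1 + (β - 1) + (i : F) • (β - 1) + (i : F) • ((β - 1) * (β - 1)) := by
              rw [mul_add, mul_one, add_mul, one_mul, smul_mul_assoc]; abel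
            _ = 1 + ((i + 1 : ℕ) : F) • (β - 1) := by
              rw [h1, smul_zero, add_zero, Nat.cast_succ, add_smul, one_smul]; abel
      have h4 := h3 r
      rw [hβr] at h4
      have h5 : (r : F) • (β - 1) = 0 := by
        have := h4.symm
        rwa [add_eq_left] at this
      exact sub_eq_zero.1 ((smul_eq_zero.1 h5).resolve_left hr0)
    · intro h
      apply hfix
      rw [eq_bot_iff, ← h]
      intro x hx
      rw [LinearMap.mem_ker, LinearMap.sub_apply, sub_eq_zero] at hx
      have hx' : β x = x := hx
      have hx2 : (β ^ (r - 1)) x = x := by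
        conv_lhs => rw [← hx']
        rw [hap']
      rw [LinearMap.mem_ker]
      have h9 : ψ x = (2 : F) • x - β x - (β ^ (r - 1)) x := rfl
      rw [h9, hx', hx2, two_smul]
      abel

end Cfsg.Agent.Lib.Helper99.PG
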