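import Mathlib
import Cfsg.Agent.Lib.Helper48.SpExist
import Cfsg.Agent.S0245

set_option autoImplicit false

namespace Cfsg.Agent.Lib.Helper99.PG

open Module LinearMap Finset Cfsg.Agent.Lib.Helper17 Cfsg.Agent.Lib.Helper48

variable {F : Type*} [Field F] [Fintype F]

theorem exists_PSp_orderOf_mul (p : ℕ) [Fact p.Prime] [CharP F p] {n r i : ℕ} (hr : r.Prime)
    (hr2 : r ≠ 2) (hrp : r ≠ p) (hi : 1 ≤ i) (hin : i ≤ n - 1)
    (h : r ∣ Fintype.card F ^ (2 * i) - 1) : ∃ y : Cfsg.PSp n F, orderOf y = r * p := by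
  have hp : p.Prime := Fact.out
  have : Fact r.Prime := ⟨hr⟩
  have hcop : Nat.Coprime r p := (Nat.coprime_primes hr hp).2 hrp
  -- the two factors
  obtain ⟨n₁, hn₁⟩ : ∃ n₁, n₁ = n - 1 := ⟨_, rfl⟩
  rw [← hn₁] at hin
  have hc1 : r ∣ Nat.card (Matrix.symplecticGroup (Fin n₁) F) := by
    rw [Cfsg.Agent.S0245.result rfl n₁]
    apply Dvd.dvd.mul_left
    apply h.trans
    have : 2 * i = 2 * ((i - 1) + 1) := by omega
    rw [this]
    exact Finset.dvd_prod_of_mem (fun i => Fintype.card F ^ (2 * (i + 1)) - 1)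
      (Finset.mem_range.2 (by omega))
  have hc2 : p ∣ Nat.card (Matrix.symplecticGroup (Fin 1) F) := by
    rw [Cfsg.Agent.S0245.result rfl 1]
    apply Dvd.dvd.mul_right
    simp only [one_pow, pow_one]
    obtain ⟨k, _, hk⟩ := FiniteField.card F p
    rw [hk]
    exact dvd_pow_self p k.ne_zero
  obtain ⟨A₁, hA₁⟩ := exists_prime_orderOf_dvd_card' r hc1
  obtain ⟨A₂, hA₂⟩ := exists_prime_orderOf_dvd_card' p hc2
  set V₁ := Fin n₁ ⊕ Fin n₁ → F
  set V₂ := Fin 1 ⊕ Fin 1 → F
  let C : LinearMap.BilinForm F (V₁ × V₂) :=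
    (sympB n₁ F).comp (LinearMap.fst F _ _) (LinearMap.fst F _ _) +
      (sympB 1 F).comp (LinearMap.snd F _ _) (LinearMap.snd F _ _)
  have hC : ∀ p q, C p q = sympB n₁ F p.1 q.1 + sympB 1 F p.2 q.2 := fun p q => rfl
  have hAlt : C.IsAlt := by
    intro x
    rw [hC, sympB_isAlt, sympB_isAlt, add_zero]
  have hnd : ∀ x, (∀ y, C x y = 0) → x = 0 := by
    rintro ⟨x₁, x₂⟩ hx
    have e1 : x₁ = 0 := by
      apply (sympB_nondegenerate (F := F) n₁).1
      intro y
      have := hx (y, 0)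
      rw [hC] at this
      simpa using this
    have e2 : x₂ = 0 := by
      apply (sympB_nondegenerate (F := F) 1).1
      intro y
      have := hx (0, y)
      rw [hC] at this
      simpa using this
    rw [e1, e2]
    rfl
  have hdim : finrank F (V₁ × V₂) = 2 * n := by
    rw [finrank_prod, Module.finrank_fintype_fun_eq_card, Module.finrank_fintype_fun_eq_card]
    simp only [Fintype.card_sum, Fintype.card_fin]
    omega
  set T₁ : End F V₁ := Matrix.mulVecLin (A₁ : Matrix (Fin n₁ ⊕ Fin n₁) (Fin n₁ ⊕ Fin n₁) F)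
  set T₂ : End F V₂ := Matrix.mulVecLin (A₂ : Matrix (Fin 1 ⊕ Fin 1) (Fin 1 ⊕ Fin 1) F)
  let T : End F (V₁ × V₂) := LinearMap.prodMap T₁ T₂
  have hprod1 : ∀ (f : End F V₁) (g : End F V₂),
      (LinearMap.prodMap f g : End F (V₁ × V₂)) = 1 ↔ f = 1 ∧ g = 1 := by
    intro f g
    constructor
    · intro h
      constructor
      · apply LinearMap.ext
        intro x
        have := congrArg (fun φ : End F (V₁ × V₂) => (φ (x, 0)).1) h
        simpa using this
      · apply LinearMap.ext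
        intro x
        have := congrArg (fun φ : End F (V₁ × V₂) => (φ (0, x)).2) h
        simpa using this
    · rintro ⟨rfl, rfl⟩
      apply LinearMap.ext
      rintro ⟨x, y⟩
      rfl
  have hTord : ∀ j, T ^ j = 1 ↔ r * p ∣ j := by
    intro j
    rw [prodMap_pow', hprod1, ← (sp_pow_iff A₁ j).1, ← (sp_pow_iff A₂ j).1,
      ← orderOf_dvd_iff_pow_eq_one, ← orderOf_dvd_iff_pow_eq_one, hA₁, hA₂]
    exact ⟨fun h => hcop.mul_dvd_of_dvd_of_dvd h.1 h.2,
      fun h => ⟨(Dvd.intro _ rfl).trans h, (Dvd.intro_left _ rfl).trans h⟩⟩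
  have hTiso : IsoB C T := by
    intro x w
    rw [hC, hC]
    change sympB n₁ F (T₁ x.1) (T₁ w.1) + sympB 1 F (T₂ x.2) (T₂ w.2) = _
    rw [isoB_mulVecLin A₁, isoB_mulVecLin A₂]
  have hTneg : ∀ j, T ^ j = -1 → r * p ∣ j := by
    intro j hj
    by_cases hp2 : p = 2
    · have h2 : (2 : F) = 0 := by
        have := CharP.cast_eq_zero F p
        rw [hp2] at this
        exact_mod_cast this
      have h3 : (-1 : End F (V₁ × V₂)) = 1 := by
        have h4 : (2 : F) • (1 : End F (V₁ × V₂)) = 0 := by rw [h2, zero_smul]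
        rw [two_smul] at h4
        exact neg_eq_of_add_eq_zero_left h4
      rw [h3] at hj
      exact (hTord j).1 hj
    · have h1 : T ^ (2 * j) = 1 := by
        rw [mul_comm, pow_mul, hj, pow_two]
        apply LinearMap.ext
        intro x
        simp only [Module.End.mul_apply, LinearMap.neg_apply, Module.End.one_apply]
        exact neg_neg x
      have h2 := (hTord _).1 h1
      have hodd : Nat.Coprime (r * p) 2 := by
        apply Nat.Coprime.mul_left
        · exact (Nat.coprime_primes hr Nat.prime_two).2 hr2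
        · exact (Nat.coprime_primes hp Nat.prime_two).2 hp2
      exact hodd.dvd_of_dvd_mul_left h2
  obtain ⟨A, hA⟩ := exists_sp_of_isoB C hAlt hnd hdim T hTiso
  refine ⟨QuotientGroup.mk A, ?_⟩
  apply Nat.dvd_antisymm
  · rw [orderOf_mk_sp_dvd_iff]
    left
    rw [(hA _).1, hTord]
  · have h1 := (orderOf_mk_sp_dvd_iff A (orderOf (QuotientGroup.mk A : Cfsg.PSp n F))).1 dvd_rfl
    rcases h1 with h1 | h1
    · exact (hTord _).1 ((hA _).1.1 h1)
    · exact hTneg _ ((hA _).2.1 h1)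

end Cfsg.Agent.Lib.Helper99.PG
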